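import Groth.Agent.Decaying.Basic
import Groth.Prelude.Def_W4c5adicflatcomplDec
import Mathlib.RingTheory.AdicCompletion.Completeness
import Mathlib.RingTheory.Noetherian.Basic

/-!
# The universal property of decaying functions
-/

set_option autoImplicit false

universe u v w

open W4c5adicflatcompl

namespace Groth.Agent.Decaying

variable {A : Type u} [CommRing A] {I : Ideal A} {M : Type w} [AddCommGroup M] [Module A M]

lemma linearMap_eq_zero_of_one [IsHausdorff I M] (hI : I.FG) (L : AdicCompletion I A →ₗ[A] M) (h : L 1 = 0) :
    L = 0 := by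
  refine LinearMap.ext fun c => eq_zero_of_forall (I := I) fun n => ?_
  obtain ⟨a, ha⟩ := Submodule.Quotient.mk_surjective _ (c.val n)
  have hd : c - a • (1 : AdicCompletion I A) ∈ (I ^ n • ⊤ : Submodule A (AdicCompletion I A)) := by
    rw [AdicCompletion.pow_smul_top_eq_ker_eval hI, LinearMap.mem_ker, map_sub, map_smul, sub_eq_zero]
    show c.val n = a • (1 : AdicCompletion I A).val n
    rw [← ha, AdicCompletion.val_one]
    show Submodule.Quotient.mk a = Submodule.Quotient.mk (a • (1 : A))
    exact congrArg _ (mul_one _).symm
  simpa [h] using map_mem_pow L hd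

/-- The map `Â → M` with `1 ↦ m`. -/
noncomputable def cplSmul [IsAdicComplete I M] (m : M) : AdicCompletion I A →ₗ[A] M :=
  (AdicCompletion.ofLinearEquiv I M).symm.toLinearMap.comp
    ((AdicCompletion.map I (LinearMap.toSpanSingleton A M m)).restrictScalars A)

lemma cplSmul_one [IsAdicComplete I M] (m : M) : cplSmul m (1 : AdicCompletion I A) = m := by
  have h1 : (1 : AdicCompletion I A) = AdicCompletion.of I A 1 := by
    ext n
    simp [AdicCompletion.val_one]
  rw [h1]
  simp only [cplSmul, LinearMap.comp_apply, LinearMap.coe_restrictScalars, LinearEquiv.coe_coe,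
    AdicCompletion.map_of, LinearMap.toSpanSingleton_apply, one_smul]
  exact AdicCompletion.ofLinearEquiv_symm_of I m

theorem existsUnique_single {Z : Type v} [DecidableEq Z] [IsAdicComplete I M] (hI : I.FG) (f : Z → M) :
    ∃! φ : decaying I Z (AdicCompletion I A) →ₗ[A] M,
      ∀ z, φ (single I z (1 : AdicCompletion I A)) = f z := by
  haveI : IsAdicComplete I (AdicCompletion I A) := AdicCompletion.isAdicComplete hI
  refine ⟨adicSum fun z => cplSmul (f z), fun z => by rw [adicSum_single, cplSmul_one], fun φ hφ => ?_⟩
  refine ext_single hI fun z c => ?_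
  let s : AdicCompletion I A →ₗ[A] decaying I Z (AdicCompletion I A) :=
    { toFun := fun c => single I z c
      map_add' := fun a b => Subtype.ext (by simp [Pi.single_add])
      map_smul' := fun a b => Subtype.ext (by simp [Pi.single_smul]) }
  have := linearMap_eq_zero_of_one hI ((φ - adicSum fun z => cplSmul (f z)).comp s) (by
    simp [s, adicSum_single, cplSmul_one, hφ])
  exact sub_eq_zero.1 (LinearMap.congr_fun this c)

end Groth.Agent.Decaying
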