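import Groth.Prelude.Def_W4c5adicflatcomplDec
import Mathlib.RingTheory.AdicCompletion.Completeness
import Mathlib.RingTheory.AdicCompletion.Functoriality
import Mathlib.RingTheory.AdicCompletion.Algebra
import Mathlib.RingTheory.Finiteness.Cardinality
import Mathlib.RingTheory.Finiteness.Ideal

/-!
# Modules of decaying functions: completeness and adic sums
-/

set_option autoImplicit false

universe u v w w'

open W4c5adicflatcompl

namespace Groth.Agent.Decaying

variable {A : Type u} [CommRing A] {I : Ideal A} {Z : Type v} {N : Type w} [AddCommGroup N] [Module A N]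
  {M : Type w'} [AddCommGroup M] [Module A M]

lemma map_mem_pow {n : ℕ} (φ : N →ₗ[A] M) {x : N} (hx : x ∈ (I ^ n • ⊤ : Submodule A N)) :
    φ x ∈ (I ^ n • ⊤ : Submodule A M) := by
  have h := Submodule.mem_map_of_mem (f := φ) hx
  rw [Submodule.map_smul''] at h
  exact Submodule.smul_mono le_rfl le_top h

lemma mem_pow_of_le {m n : ℕ} (h : m ≤ n) {x : N} (hx : x ∈ (I ^ n • ⊤ : Submodule A N)) :
    x ∈ (I ^ m • ⊤ : Submodule A N) :=
  Submodule.smul_mono_left (Ideal.pow_le_pow_right h) hx

lemma eq_zero_of_forall [IsHausdorff I N] {x : N} (h : ∀ n, x ∈ (I ^ n • ⊤ : Submodule A N)) : x = 0 :=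
  IsHausdorff.haus (‹IsHausdorff I N›) x fun n => SModEq.zero.2 (h n)

lemma mem_ideal_iff {n : ℕ} {x : A} : x ∈ (I ^ n • ⊤ : Submodule A A) ↔ x ∈ I ^ n := by
  rw [smul_eq_mul, Ideal.mul_top]

lemma apply_mem_of_mem {n : ℕ} {f : decaying I Z N} (hf : f ∈ (I ^ n • ⊤ : Submodule A (decaying I Z N))) (z : Z) :
    (f : Z → N) z ∈ (I ^ n • ⊤ : Submodule A N) :=
  map_mem_pow ((LinearMap.proj z).comp (decaying I Z N).subtype) hf

/-- A decaying function with values in `Iⁿ N` lies in `Iⁿ` times the decaying functions. -/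
theorem mem_pow_smul_top_iff [IsHausdorff I N] (hI : I.FG) (f : decaying I Z N) (n : ℕ) :
    f ∈ (I ^ n • ⊤ : Submodule A (decaying I Z N)) ↔ ∀ z, (f : Z → N) z ∈ (I ^ n • ⊤ : Submodule A N) := by
  classical
  refine ⟨apply_mem_of_mem, fun hf => ?_⟩
  obtain ⟨r, a, ha⟩ := Submodule.fg_iff_exists_fin_generating_family.1 (Ideal.FG.pow hI (n := n))
  have hdec : ∀ (y : N) (L : Submodule A N), y ∈ (Ideal.span (Set.range a) • L : Submodule A N) →
      ∃ c : Fin r → N, y = ∑ i, a i • c i ∧ ∀ i, c i ∈ L := by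
    intro y L hy
    induction hy using Submodule.smul_induction_on' with
    | smul x hx m hm =>
      obtain ⟨d, rfl⟩ := (Submodule.mem_span_range_iff_exists_fun A).1 hx
      refine ⟨fun i => d i • m, ?_, fun i => L.smul_mem _ hm⟩
      rw [Finset.sum_smul]
      exact Finset.sum_congr rfl fun i _ => by rw [smul_smul, smul_eq_mul, mul_comm]
    | add x hx y hy hx' hy' =>
      obtain ⟨c, rfl, hc⟩ := hx'
      obtain ⟨c', rfl, hc'⟩ := hy'
      exact ⟨c + c', by simp [Finset.sum_add_distrib], fun i => L.add_mem (hc i) (hc' i)⟩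
  have key : ∀ z, ∃ c : Fin r → N, (f : Z → N) z = ∑ i, a i • c i ∧
      ∀ k, (f : Z → N) z ∈ (I ^ (k + n) • ⊤ : Submodule A N) → ∀ i, c i ∈ (I ^ k • ⊤ : Submodule A N) := by
    intro z
    by_cases h0 : (f : Z → N) z = 0
    · exact ⟨0, by simp [h0], fun k _ i => zero_mem _⟩
    have hex : ∃ m, (f : Z → N) z ∉ (I ^ (m + 1 + n) • ⊤ : Submodule A N) := by
      by_contra hne
      simp only [not_exists, not_not] at hne
      exact h0 (eq_zero_of_forall (I := I) fun m => mem_pow_of_le (by omega) (hne m))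
    have hmem : (f : Z → N) z ∈ (I ^ (Nat.find hex + n) • ⊤ : Submodule A N) := by
      rcases Nat.eq_zero_or_pos (Nat.find hex) with h | h
      · rw [h, zero_add]; exact hf z
      · have := Nat.find_min hex (show Nat.find hex - 1 < Nat.find hex by omega)
        rw [not_not, show Nat.find hex - 1 + 1 = Nat.find hex by omega] at this
        exact this
    rw [add_comm, pow_add, Submodule.mul_smul, ← ha] at hmem
    obtain ⟨c, hc, hcm⟩ := hdec _ _ hmem
    refine ⟨c, hc, fun k hk i => ?_⟩
    have hle : k ≤ Nat.find hex := by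
      by_contra hlt
      exact Nat.find_spec hex (mem_pow_of_le (by omega) hk)
    exact mem_pow_of_le hle (hcm i)
  choose c hc hck using key
  have hg : ∀ i, (fun z => c z i) ∈ decaying I Z N := fun i k =>
    (f.2 (k + n)).subset fun z hz hz' => hz (hck z k hz' i)
  have hfe : f = ∑ i, a i • (⟨fun z => c z i, hg i⟩ : decaying I Z N) := by
    refine Subtype.ext (funext fun z => ?_)
    simp [hc z, Finset.sum_apply]
  rw [hfe]
  refine Submodule.sum_mem _ fun i _ => Submodule.smul_mem_smul ?_ Submodule.mem_top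
  rw [← ha]
  exact Ideal.subset_span ⟨i, rfl⟩

theorem isAdicComplete_decaying [IsAdicComplete I N] (hI : I.FG) : IsAdicComplete I (decaying I Z N) := by
  have hH : IsHausdorff I (decaying I Z N) := ⟨fun f hf => Subtype.ext (funext fun z =>
    eq_zero_of_forall (I := I) fun n => apply_mem_of_mem (SModEq.zero.1 (hf n)) z)⟩
  refine { toIsHausdorff := hH, toIsPrecomplete := ⟨fun f hf => ?_⟩ }
  have hz : ∀ z, ∃ L : N, ∀ n, (f n : Z → N) z - L ∈ (I ^ n • ⊤ : Submodule A N) := fun z => by
    obtain ⟨L, hL⟩ := IsPrecomplete.prec (inferInstance : IsPrecomplete I N)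
      (f := fun n => (f n : Z → N) z) fun {m n} hmn => by
        rw [SModEq.sub_mem]
        exact apply_mem_of_mem (SModEq.sub_mem.1 (hf hmn)) z
    exact ⟨L, fun n => SModEq.sub_mem.1 (hL n)⟩
  choose L hL using hz
  have hLdec : L ∈ decaying I Z N := fun n => ((f n).2 n).subset fun z hz hz' => hz (by
    have := sub_mem hz' (hL z n)
    rwa [sub_sub_cancel] at this)
  refine ⟨⟨L, hLdec⟩, fun n => SModEq.sub_mem.2 ((mem_pow_smul_top_iff hI _ n).2 fun z => ?_)⟩
  exact hL z n

section adicSum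

variable [IsAdicComplete I M]

lemma sub_sum_mem {F : Z → M} (P : Submodule A M) {S T : Finset Z} (hS : ∀ z, z ∉ S → F z ∈ P)
    (hT : ∀ z, z ∉ T → F z ∈ P) : (∑ z ∈ S, F z) - (∑ z ∈ T, F z) ∈ P := by
  classical
  have h1 : ∀ (S T : Finset Z), (∀ z, z ∉ T → F z ∈ P) → (∑ z ∈ S ∪ T, F z) - ∑ z ∈ T, F z ∈ P := by
    intro S T hT
    rw [← Finset.sum_sdiff (Finset.subset_union_right (s₁ := S) (s₂ := T)), add_sub_cancel_right]
    exact Submodule.sum_mem _ fun z hz => hT z (Finset.mem_sdiff.1 hz).2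
  have := sub_mem (h1 S T hT) (h1 T S hS)
  rwa [Finset.union_comm T S, sub_sub_sub_cancel_left] at this

lemma exists_limit (θ : Z → N →ₗ[A] M) (g : decaying I Z N) : ∃ L : M, ∀ (n : ℕ) (S : Finset Z),
    (∀ z, z ∉ S → θ z ((g : Z → N) z) ∈ (I ^ n • ⊤ : Submodule A M)) →
      L - ∑ z ∈ S, θ z ((g : Z → N) z) ∈ (I ^ n • ⊤ : Submodule A M) := by
  let F : Z → M := fun z => θ z ((g : Z → N) z)
  let T : ℕ → Finset Z := fun n => (g.2 n).toFinset
  have hT : ∀ n z, z ∉ T n → F z ∈ (I ^ n • ⊤ : Submodule A M) := fun n z hz =>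
    map_mem_pow _ (by simpa [T] using hz)
  obtain ⟨L, hL⟩ := IsPrecomplete.prec (inferInstance : IsPrecomplete I M) (f := fun n => ∑ z ∈ T n, F z)
    fun {m n} hmn => SModEq.sub_mem.2 (sub_sum_mem _ (hT m) fun z hz => mem_pow_of_le hmn (hT n z hz))
  refine ⟨L, fun n S hS => ?_⟩
  have h1 := SModEq.sub_mem.1 (hL n).symm
  have h2 := add_mem h1 (sub_sum_mem _ (hT n) hS)
  rwa [sub_add_sub_cancel] at h2

/-- The adic sum `g ↦ ∑ θ z (g z)`. -/
noncomputable def adicSum (θ : Z → N →ₗ[A] M) : decaying I Z N →ₗ[A] M where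
  toFun g := (exists_limit θ g).choose
  map_add' g g' := by
    classical
    refine sub_eq_zero.1 (eq_zero_of_forall (I := I) fun n => ?_)
    let S : Finset Z := (g.2 n).toFinset ∪ (g'.2 n).toFinset
    have hg : ∀ z, z ∉ S → θ z ((g : Z → N) z) ∈ (I ^ n • ⊤ : Submodule A M) := fun z hz =>
      map_mem_pow _ (by simp [S] at hz; exact hz.1)
    have hg' : ∀ z, z ∉ S → θ z ((g' : Z → N) z) ∈ (I ^ n • ⊤ : Submodule A M) := fun z hz =>
      map_mem_pow _ (by simp [S] at hz; exact hz.2)
    have h1 := (exists_limit θ g).choose_spec n S hg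
    have h2 := (exists_limit θ g').choose_spec n S hg'
    have h3 := (exists_limit θ (g + g')).choose_spec n S fun z hz => by
      rw [Submodule.coe_add, Pi.add_apply, map_add]
      exact add_mem (hg z hz) (hg' z hz)
    convert sub_mem h3 (add_mem h1 h2) using 1
    simp only [Submodule.coe_add, Pi.add_apply, map_add, Finset.sum_add_distrib]
    abel
  map_smul' a g := by
    refine sub_eq_zero.1 (eq_zero_of_forall (I := I) fun n => ?_)
    let S : Finset Z := (g.2 n).toFinset
    have hg : ∀ z, z ∉ S → θ z ((g : Z → N) z) ∈ (I ^ n • ⊤ : Submodule A M) := fun z hz =>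
      map_mem_pow _ (by simpa [S] using hz)
    have h1 := (exists_limit θ g).choose_spec n S hg
    have h3 := (exists_limit θ (a • g)).choose_spec n S fun z hz => by
      rw [Submodule.coe_smul, Pi.smul_apply, map_smul]
      exact Submodule.smul_mem _ a (hg z hz)
    convert sub_mem h3 (Submodule.smul_mem _ a h1) using 1
    simp only [Submodule.coe_smul, Pi.smul_apply, map_smul, RingHom.id_apply, ← Finset.smul_sum, smul_sub]
    abel

lemma adicSum_spec (θ : Z → N →ₗ[A] M) (g : decaying I Z N) (n : ℕ) (S : Finset Z)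
    (hS : ∀ z, z ∉ S → θ z ((g : Z → N) z) ∈ (I ^ n • ⊤ : Submodule A M)) :
    adicSum θ g - ∑ z ∈ S, θ z ((g : Z → N) z) ∈ (I ^ n • ⊤ : Submodule A M) :=
  (exists_limit θ g).choose_spec n S hS

lemma adicSum_single [DecidableEq Z] (θ : Z → N →ₗ[A] M) (z : Z) (c : N) :
    adicSum θ (single I z c) = θ z c := by
  refine sub_eq_zero.1 (eq_zero_of_forall (I := I) fun n => ?_)
  have := adicSum_spec θ (single I z c) n {z} fun z' hz' => by
    rw [coe_single, Pi.single_eq_of_ne (by simpa using hz'), map_zero]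
    exact zero_mem _
  simpa using this

omit [IsAdicComplete I M] in
/-- Maps out of decaying functions are determined on single values. -/
lemma ext_single [IsHausdorff I M] [IsHausdorff I N] [DecidableEq Z] (hI : I.FG) {φ ψ : decaying I Z N →ₗ[A] M}
    (h : ∀ z c, φ (single I z c) = ψ (single I z c)) : φ = ψ := by
  refine LinearMap.ext fun g => sub_eq_zero.1 (eq_zero_of_forall (I := I) fun n => ?_)
  let S : Finset Z := (g.2 n).toFinset
  have hd : g - ∑ z ∈ S, single I z ((g : Z → N) z) ∈ (I ^ n • ⊤ : Submodule A (decaying I Z N)) := by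
    refine (mem_pow_smul_top_iff hI _ n).2 fun z => ?_
    simp only [Submodule.coe_sub, Submodule.coe_sum, coe_single, Pi.sub_apply, Finset.sum_apply]
    by_cases hz : z ∈ S
    · rw [Finset.sum_eq_single z (fun z' _ h' => Pi.single_eq_of_ne h'.symm _) (fun h' => absurd hz h'),
        Pi.single_eq_same, sub_self]
      exact zero_mem _
    · rw [Finset.sum_eq_zero (fun z' hz' => Pi.single_eq_of_ne (by rintro rfl; exact hz hz') _), sub_zero]
      simpa [S] using hz
  have := map_mem_pow (φ - ψ) hd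
  simpa [h] using this

end adicSum

section congr

variable {N' : Type*} [AddCommGroup N'] [Module A N']

/-- Decaying functions are functorial in linear equivalences. -/
noncomputable def congr (Z : Type v) (e : N ≃ₗ[A] N') : decaying I Z N ≃ₗ[A] decaying I Z N' where
  toFun g := ⟨fun z => e ((g : Z → N) z), fun n => (g.2 n).subset fun z hz hz' =>
    hz (map_mem_pow (e : N →ₗ[A] N') hz')⟩
  map_add' g g' := Subtype.ext (funext fun z => map_add e _ _)
  map_smul' a g := Subtype.ext (funext fun z => map_smul e _ _)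
  invFun g := ⟨fun z => e.symm ((g : Z → N') z), fun n => (g.2 n).subset fun z hz hz' =>
    hz (map_mem_pow (e.symm : N' →ₗ[A] N) hz')⟩
  left_inv g := Subtype.ext (funext fun z => e.symm_apply_apply _)
  right_inv g := Subtype.ext (funext fun z => e.apply_symm_apply _)

end congr

/-- Successive approximation along a filtration. -/
theorem exists_approx [IsAdicComplete I A] (P : ℕ → Submodule A N) (hP0 : P 0 = ⊤) (v : Z → N)
    (happ : ∀ k (x : N), x ∈ P k → ∃ c : Z →₀ A, (∀ z, c z ∈ I ^ k) ∧ x - c.sum (fun z a => a • v z) ∈ P (k + 1))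
    (hI : ∀ n (a : A), a ∈ I ^ n → ∀ y : N, a • y ∈ P n) (x : N) :
    ∃ g : Z → A, g ∈ decaying I Z A ∧ ∀ n, ∃ S : Finset Z,
      (∀ z, z ∉ S → g z ∈ I ^ n) ∧ x - (∑ z ∈ S, g z • v z) ∈ P n := by
  classical
  let X : ∀ k, {y : N // y ∈ P k} := fun k => Nat.rec (motive := fun k => {y : N // y ∈ P k})
    ⟨x, by rw [hP0]; trivial⟩ (fun k y => ⟨_, (happ k y.1 y.2).choose_spec.2⟩) k
  let c : ℕ → Z →₀ A := fun k => (happ k (X k).1 (X k).2).choose
  have hc : ∀ k z, c k z ∈ I ^ k := fun k => (happ k (X k).1 (X k).2).choose_spec.1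
  have hX : ∀ k, (X (k + 1)).1 = (X k).1 - (c k).sum fun z a => a • v z := fun k => rfl
  let C : ℕ → Z →₀ A := fun n => ∑ k ∈ Finset.range n, c k
  have htel : ∀ n, x - (C n).sum (fun z a => a • v z) = (X n).1 := by
    intro n
    induction n with
    | zero => simp [C, X]
    | succ n ih =>
      rw [hX, ← ih]
      simp only [C, Finset.sum_range_succ]
      rw [Finsupp.sum_add_index' (h := fun z a => a • v z) (fun _ => zero_smul _ _) (fun _ _ _ => add_smul _ _ _)]
      abel
  have hC : ∀ {m n}, m ≤ n → ∀ z, C n z - C m z ∈ I ^ m := by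
    intro m n hmn z
    simp only [C, Finsupp.finsetSum_apply]
    rw [← Finset.sum_range_add_sum_Ico _ hmn, add_sub_cancel_left]
    exact Submodule.sum_mem _ fun k hk => Ideal.pow_le_pow_right (Finset.mem_Ico.1 hk).1 (hc k z)
  choose g hg using fun z => IsPrecomplete.prec (inferInstance : IsPrecomplete I A) (f := fun n => C n z)
    fun {m n} hmn => SModEq.sub_mem.2 (mem_ideal_iff.2 (by simpa using neg_mem (hC hmn z)))
  have hgC : ∀ n z, C n z - g z ∈ I ^ n := fun n z => mem_ideal_iff.1 (SModEq.sub_mem.1 (hg z n))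
  have hout : ∀ n z, z ∉ (C n).support → g z ∈ I ^ n := fun n z hz => by
    simpa [Finsupp.notMem_support_iff.1 hz] using hgC n z
  refine ⟨g, fun n => (C n).support.finite_toSet.subset fun z hz => ?_, fun n => ⟨(C n).support, hout n, ?_⟩⟩
  · by_contra h
    exact hz (mem_ideal_iff.2 (hout n z h))
  · have hX' : x - (C n).sum (fun z a => a • v z) ∈ P n := htel n ▸ (X n).2
    have h2 : (C n).sum (fun z a => a • v z) - ∑ z ∈ (C n).support, g z • v z ∈ P n := by
      rw [Finsupp.sum, ← Finset.sum_sub_distrib]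
      refine Submodule.sum_mem _ fun z _ => ?_
      rw [← sub_smul]
      exact hI n _ (hgC n z) _
    have := add_mem hX' h2
    rwa [sub_add_sub_cancel] at this

lemma exists_coeff {v : Z → N} (J : Ideal A) {y : N} (hy : y ∈ (J • Submodule.span A (Set.range v) : Submodule A N)) :
    ∃ c : Z →₀ A, (∀ z, c z ∈ J) ∧ y = c.sum fun z a => a • v z := by
  refine Submodule.smul_induction_on (p := fun y => ∃ c : Z →₀ A, (∀ z, c z ∈ J) ∧ y = c.sum fun z a => a • v z) hy
    (fun a ha m hm => ?_) fun y y' hy hy' => ?_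
  · obtain ⟨d, rfl⟩ := Finsupp.mem_span_range_iff_exists_finsupp.1 hm
    refine ⟨a • d, fun z => J.mul_mem_right _ ha, ?_⟩
    rw [Finsupp.sum_smul_index (h := fun z a => a • v z) (fun _ => zero_smul _ _), Finsupp.smul_sum]
    simp only [mul_smul]
  · obtain ⟨c, hc, rfl⟩ := hy
    obtain ⟨c', hc', rfl⟩ := hy'
    exact ⟨c + c', fun z => J.add_mem (hc z) (hc' z),
      (Finsupp.sum_add_index' (h := fun z a => a • v z) (fun _ => zero_smul _ _) (fun _ _ _ => add_smul _ _ _)).symm⟩

/-- Approximation from generation modulo `I`. -/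
lemma approx_of_span {v : Z → N} (hv : Submodule.span A (Set.range v) ⊔ I • ⊤ = ⊤) (k : ℕ) {x : N}
    (hx : x ∈ (I ^ k • ⊤ : Submodule A N)) :
    ∃ c : Z →₀ A, (∀ z, c z ∈ I ^ k) ∧ x - c.sum (fun z a => a • v z) ∈ (I ^ (k + 1) • ⊤ : Submodule A N) := by
  rw [← hv, Submodule.smul_sup, ← Submodule.mul_smul, ← pow_succ] at hx
  obtain ⟨y, hy, z, hz, rfl⟩ := Submodule.mem_sup.1 hx
  obtain ⟨c, hc, rfl⟩ := exists_coeff (I ^ k) hy
  exact ⟨c, hc, by rwa [add_sub_cancel_left]⟩

lemma ker_eval [IsAdicComplete I (AdicCompletion I N)] {n : ℕ} {y : AdicCompletion I N} (hy : y.val n = 0) :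
    y ∈ (I ^ n • ⊤ : Submodule A (AdicCompletion I N)) := by
  choose m hm using fun k => Submodule.Quotient.mk_surjective _ (y.val k)
  have hcauchy : ∀ {j k : ℕ}, j ≤ k →
      AdicCompletion.of I N (m j) ≡ AdicCompletion.of I N (m k) [SMOD (I ^ j • ⊤ : Submodule A (AdicCompletion I N))] := by
    intro j k hjk
    rw [SModEq.sub_mem, ← map_sub]
    refine map_mem_pow _ ((Submodule.Quotient.eq _).1 ?_)
    rw [hm j, ← y.2 hjk, ← hm k]
    rfl
  obtain ⟨L, hL⟩ := IsPrecomplete.prec (inferInstance : IsPrecomplete I (AdicCompletion I N)) hcauchy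
  have hzero : ∀ (k : ℕ) (z : AdicCompletion I N), z ∈ (I ^ k • ⊤ : Submodule A (AdicCompletion I N)) → z.val k = 0 :=
    fun k z hz => by
      obtain ⟨p, hp⟩ := Submodule.Quotient.mk_surjective _ (AdicCompletion.eval I N k z)
      refine Submodule.smul_induction_on (p := fun z : AdicCompletion I N => z.val k = 0) hz (fun a ha w _ => ?_)
        fun w w' hw hw' => by rw [AdicCompletion.val_add_apply, hw, hw', add_zero]
      obtain ⟨q, hq⟩ := Submodule.Quotient.mk_surjective _ (w.val k)
      rw [AdicCompletion.val_smul_apply, ← hq, ← Submodule.Quotient.mk_smul, Submodule.Quotient.mk_eq_zero]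
      exact Submodule.smul_mem_smul ha trivial
  have hLy : L = y := AdicCompletion.ext fun k => by
    have := hzero k _ (SModEq.sub_mem.1 (hL k))
    rw [AdicCompletion.val_sub_apply, sub_eq_zero] at this
    rw [← this, AdicCompletion.of_apply, Submodule.mkQ_apply, hm k]
  have h1 := SModEq.sub_mem.1 (hL n)
  rw [hLy] at h1
  have h2 : AdicCompletion.of I N (m n) ∈ (I ^ n • ⊤ : Submodule A (AdicCompletion I N)) :=
    map_mem_pow _ ((Submodule.Quotient.mk_eq_zero _).1 ((hm n).trans hy))
  simpa using sub_mem h2 h1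

end Groth.Agent.Decaying
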