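import Groth.Agent.Decaying.Basic
import Mathlib.RingTheory.Flat.EquationalCriterion
import Mathlib.RingTheory.LocalRing.ResidueField.Basic
import Mathlib.LinearAlgebra.Basis.VectorSpace
import Mathlib.RingTheory.Flat.Stability
import Mathlib.LinearAlgebra.TensorProduct.Quotient
import Mathlib.RingTheory.Ideal.Quotient.Operations

/-!
# Adically free modules over complete local rings
-/

set_option autoImplicit false

universe u v w

open W4c5adicflatcompl IsLocalRing

namespace Groth.Agent.Decaying

section indep

variable {R : Type u} [CommRing R] [IsLocalRing R] {M : Type w} [AddCommGroup M] [Module R M] [Module.Flat R M]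
  {Z : Type v} (v : Z → M)

/-- Independence modulo the maximal ideal lifts to all powers, for flat modules. -/
theorem coeff_mem_pow
    (hv : ∀ c : Z →₀ R, c.sum (fun z a => a • v z) ∈ (maximalIdeal R • ⊤ : Submodule R M) → ∀ z, c z ∈ maximalIdeal R)
    (n : ℕ) (c : Z →₀ R) (hc : c.sum (fun z a => a • v z) ∈ (maximalIdeal R ^ n • ⊤ : Submodule R M)) (z : Z) :
    c z ∈ maximalIdeal R ^ n := by
  classical
  by_cases hzc : z ∈ c.support
  swap
  · rw [Finsupp.notMem_support_iff.1 hzc]
    exact zero_mem _
  obtain ⟨p, b, w, hb, hbw⟩ : ∃ (p : ℕ) (b : Fin p → R) (w : Fin p → M),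
      (∀ i, b i ∈ maximalIdeal R ^ n) ∧ ∑ i, b i • w i = c.sum (fun z a => a • v z) := by
    generalize c.sum (fun z a => a • v z) = y at hc
    refine Submodule.smul_induction_on (p := fun y => ∃ (p : ℕ) (b : Fin p → R) (w : Fin p → M),
      (∀ i, b i ∈ maximalIdeal R ^ n) ∧ ∑ i, b i • w i = y) hc (fun a ha m _ => ?_) fun y y' hy hy' => ?_
    · exact ⟨1, fun _ => a, fun _ => m, fun _ => ha, by simp⟩
    · obtain ⟨p, b, w, hb, rfl⟩ := hy
      obtain ⟨p', b', w', hb', rfl⟩ := hy'
      exact ⟨p + p', Fin.append b b', Fin.append w w', fun i => by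
        refine Fin.addCases (fun i => ?_) (fun i => ?_) i <;> simp [hb, hb'], by simp [Fin.sum_univ_add]⟩
  let S := c.support
  let U : ((S → R) × (Fin p → R)) →ₗ[R] M :=
    LinearMap.coprod (∑ s : S, (LinearMap.proj s).smulRight (v s)) (∑ i, (LinearMap.proj i).smulRight (w i))
  have hU : U ((fun s => c s), -b) = 0 := by
    simp only [U, LinearMap.coprod_apply, LinearMap.sum_apply, LinearMap.smulRight_apply, LinearMap.proj_apply,
      Pi.neg_apply, neg_smul, Finset.sum_neg_distrib]
    rw [Finset.sum_coe_sort S (fun s => c s • v s), hbw]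
    exact add_neg_cancel _
  obtain ⟨k, a, y, hay, ha⟩ := Module.Flat.exists_factorization_of_apply_eq_zero_of_free hU
  let G : (S → R) →ₗ[R] (Fin k → R) :=
    (Finsupp.linearEquivFunOnFinite R R (Fin k)).toLinearMap ∘ₗ a ∘ₗ LinearMap.inl R _ _
  have hGc : ∀ i, G (fun s => c s) i ∈ maximalIdeal R ^ n := fun i => by
    have h1 : a ((fun s => c s), (0 : Fin p → R)) = a ((0 : S → R), b) := by
      rw [← sub_eq_zero, ← map_sub]
      simpa using ha
    have h2 : G (fun s => c s) = (Finsupp.linearEquivFunOnFinite R R (Fin k)) (a ((0 : S → R), b)) := by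
      rw [← h1]; rfl
    rw [h2]
    have h3 : ((0 : S → R), b) = ∑ j, b j • (((0 : S → R), (Pi.single j 1 : Fin p → R))) := by
      refine Prod.ext (by simp [Prod.fst_sum]) (funext fun j => ?_)
      simp [Prod.snd_sum, Finset.sum_apply, Pi.single_apply]
    rw [h3, map_sum, map_sum, Finset.sum_apply]
    refine Ideal.sum_mem _ fun j _ => ?_
    rw [map_smul, map_smul, Pi.smul_apply, smul_eq_mul]
    exact Ideal.mul_mem_right _ _ (hb j)
  have hmod : ∀ d : S → R, (∀ i, G d i ∈ maximalIdeal R) → ∀ s, d s ∈ maximalIdeal R := by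
    intro d hd s
    let d' : Z →₀ R := Finsupp.onFinset S (fun z => if h : z ∈ S then d ⟨z, h⟩ else 0) fun z hz => by
      by_contra h
      simp [h] at hz
    have hsum : d'.sum (fun z a => a • v z) = U (d, 0) := by
      simp only [U, LinearMap.coprod_apply, LinearMap.sum_apply, LinearMap.smulRight_apply, LinearMap.proj_apply,
        Pi.zero_apply, zero_smul, Finset.sum_const_zero, add_zero]
      rw [Finsupp.onFinset_sum (g := fun z a => a • v z) _ fun _ => zero_smul _ _, ← Finset.sum_coe_sort]
      exact Finset.sum_congr rfl fun t _ => by simp [t.2]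
    have hmem : U (d, 0) ∈ (maximalIdeal R • ⊤ : Submodule R M) := by
      rw [hay, LinearMap.comp_apply]
      have : a (d, 0) = ∑ i, G d i • Finsupp.single i 1 := by
        refine Finsupp.ext fun i => ?_
        simp [Finsupp.finsetSum_apply, Finsupp.single_apply, G]
      rw [this, map_sum]
      exact Submodule.sum_mem _ fun i _ => by rw [map_smul]; exact Submodule.smul_mem_smul (hd i) trivial
    have h := hv d' (by rwa [hsum]) s
    simpa [d', s.2] using h
  let q : R →+* ResidueField R := residue R
  let Gk : (S → ResidueField R) →ₗ[ResidueField R] (Fin k → ResidueField R) :=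
    LinearMap.pi fun i => ∑ s : S, q (G (Pi.single s 1) i) • LinearMap.proj s
  have hGk : ∀ d : S → R, Gk (fun s => q (d s)) = fun i => q (G d i) := fun d => funext fun i => by
    conv_rhs => rw [← Finset.univ_sum_single d, map_sum, Finset.sum_apply, map_sum]
    simp only [Gk, LinearMap.pi_apply, LinearMap.sum_apply, LinearMap.smul_apply, LinearMap.proj_apply, smul_eq_mul]
    refine Finset.sum_congr rfl fun s _ => ?_
    rw [show (Pi.single s (d s) : S → R) = d s • Pi.single s (1 : R) by rw [← Pi.single_smul, smul_eq_mul, mul_one],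
      map_smul, Pi.smul_apply, smul_eq_mul, map_mul, mul_comm]
  have hker : LinearMap.ker Gk = ⊥ := by
    rw [eq_bot_iff]
    intro x hx
    choose d hd using fun s => residue_surjective (x s)
    obtain rfl : x = fun s => q (d s) := funext fun s => (hd s).symm
    refine (Submodule.mem_bot _).2 (funext fun s => (residue_eq_zero_iff _).2 (hmod d (fun i => ?_) s))
    exact (residue_eq_zero_iff _).1 (congrFun ((hGk d).symm.trans (LinearMap.mem_ker.1 hx)) i)
  obtain ⟨g, hg⟩ := Gk.exists_leftInverse_of_injective hker
  choose r hr using fun (s : S) (i : Fin k) => residue_surjective (g (Pi.single i 1) s)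
  let E : S → S → R := fun s t => (∑ i, r s i * G (Pi.single t 1) i) - if s = t then 1 else 0
  have hE : ∀ s t, E s t ∈ maximalIdeal R := fun s t => by
    rw [← residue_eq_zero_iff, map_sub, map_sum, sub_eq_zero]
    have h1 := congrFun (LinearMap.congr_fun hg (fun s => q ((Pi.single t 1 : S → R) s))) s
    rw [LinearMap.comp_apply, hGk, LinearMap.id_apply] at h1
    conv_lhs at h1 => rw [← Finset.univ_sum_single (fun i => q (G (Pi.single t 1) i)), map_sum, Finset.sum_apply]
    refine (Finset.sum_congr rfl fun i _ => ?_).trans (h1.trans ?_)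
    · rw [map_mul, hr, show (Pi.single i (q (G (Pi.single t 1) i)) : Fin k → ResidueField R) =
        q (G (Pi.single t 1) i) • Pi.single i 1 by rw [← Pi.single_smul, smul_eq_mul, mul_one], map_smul,
        Pi.smul_apply, smul_eq_mul, mul_comm]
    · simp [Pi.single_apply, q, apply_ite]
  have hiter : ∀ j, j ≤ n → ∀ s : S, c s ∈ maximalIdeal R ^ j := by
    intro j
    induction j with
    | zero => intro _ s; simp
    | succ j ih =>
      intro hj s
      have h1 : ∑ i, r s i * G (fun s => c s) i = c s + ∑ t : S, E s t * c t := by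
        have h2 : ∀ i, G (fun s => c s) i = ∑ t : S, G (Pi.single t 1) i * c t := fun i => by
          conv_lhs => rw [← Finset.univ_sum_single (fun s : S => c s), map_sum, Finset.sum_apply]
          refine Finset.sum_congr rfl fun t _ => ?_
          rw [show (Pi.single t (c t) : S → R) = c t • Pi.single t (1 : R) by
            rw [← Pi.single_smul, smul_eq_mul, mul_one], map_smul, Pi.smul_apply, smul_eq_mul, mul_comm]
        simp only [E, sub_mul, Finset.sum_sub_distrib, Finset.sum_mul, ite_mul, one_mul, zero_mul]
        rw [Finset.sum_ite_eq Finset.univ s (fun t => c t), if_pos (Finset.mem_univ _), add_sub_cancel, Finset.sum_comm]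
        exact Finset.sum_congr rfl fun i _ => by rw [h2, Finset.mul_sum]; exact Finset.sum_congr rfl fun t _ => (mul_assoc _ _ _).symm
      have h2 : c s + ∑ t : S, E s t * c t ∈ maximalIdeal R ^ (j + 1) := h1 ▸
        Ideal.sum_mem _ fun i _ => Ideal.mul_mem_left _ _ (Ideal.pow_le_pow_right hj (hGc i))
      have h3 : ∑ t : S, E s t * c t ∈ maximalIdeal R ^ (j + 1) := Ideal.sum_mem _ fun t _ => by
        rw [pow_succ']
        exact Ideal.mul_mem_mul (hE s t) (ih (Nat.le_of_succ_le hj) t)
      simpa using Ideal.sub_mem _ h2 h3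
  exact hiter n le_rfl ⟨z, hzc⟩

end indep

/-- A basis modulo an ideal with field quotient. -/
theorem exists_basis_mod {A : Type u} [CommRing A] (m : Ideal A) [m.IsMaximal] (M : Type w) [AddCommGroup M]
    [Module A M] : ∃ (Z : Type w) (v : Z → M), Submodule.span A (Set.range v) ⊔ m • ⊤ = ⊤ ∧
      ∀ c : Z →₀ A, c.sum (fun z a => a • v z) ∈ (m • ⊤ : Submodule A M) → ∀ z, c z ∈ m := by
  letI := Ideal.Quotient.field m
  let V := M ⧸ (m • ⊤ : Submodule A M)
  let b := Module.Free.chooseBasis (A ⧸ m) V
  choose v hv using fun i => Submodule.Quotient.mk_surjective _ (b i)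
  refine ⟨_, v, ?_, fun c hc z => ?_⟩
  · rw [eq_top_iff]
    intro x _
    have hsp : (Submodule.Quotient.mk x : V) ∈ Submodule.span A (Set.range b) := by
      rw [← Submodule.restrictScalars_span A (A ⧸ m) Ideal.Quotient.mk_surjective, Submodule.restrictScalars_mem, b.span_eq]
      trivial
    rw [show Set.range b = (m • ⊤ : Submodule A M).mkQ '' Set.range v by
      rw [← Set.range_comp]; exact congrArg Set.range (funext fun i => (hv i).symm), ← Submodule.map_span] at hsp
    obtain ⟨y, hy, hyx⟩ := hsp
    rw [← add_sub_cancel y x]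
    exact Submodule.add_mem_sup hy ((Submodule.Quotient.eq _).1 hyx.symm)
  · let c' := c.mapRange (Ideal.Quotient.mk m) (map_zero _)
    have hlin : Finsupp.linearCombination (A ⧸ m) b c' = 0 := by
      rw [← (Submodule.Quotient.mk_eq_zero _).2 hc, Finsupp.linearCombination_apply,
        Finsupp.sum_mapRange_index (h := fun i a => a • b i) (fun _ => zero_smul _ _), ← Submodule.mkQ_apply, map_finsuppSum]
      exact Finsupp.sum_congr fun i _ => by
        rw [map_smul, Submodule.mkQ_apply, hv]
        rfl
    have := linearIndependent_iff.1 b.linearIndependent c' hlin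
    exact Ideal.Quotient.eq_zero_iff_mem.1 (by simpa [c'] using DFunLike.congr_fun this z)

theorem isAdicFree_of_flat {A : Type u} [CommRing A] [IsNoetherianRing A] [IsLocalRing A]
    [IsAdicComplete (maximalIdeal A) A] (M : Type u) [AddCommGroup M] [Module A M] [Module.Flat A M]
    [IsAdicComplete (maximalIdeal A) M] : IsAdicFree (maximalIdeal A) M := by
  classical
  obtain ⟨Z, v, hspan, hind⟩ := exists_basis_mod (maximalIdeal A) M
  let φ : decaying (maximalIdeal A) Z A →ₗ[A] M := adicSum fun z => LinearMap.toSpanSingleton A M (v z)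
  have hφ : Function.Bijective φ := by
    refine ⟨(injective_iff_map_eq_zero φ).2 fun g hg => Subtype.ext (funext fun z => ?_), fun x => ?_⟩
    · refine eq_zero_of_forall (I := maximalIdeal A) fun n => mem_ideal_iff.2 ?_
      let S : Finset Z := (g.2 n).toFinset ∪ {z}
      have hS : ∀ z', z' ∉ S → (g : Z → A) z' • v z' ∈ (maximalIdeal A ^ n • ⊤ : Submodule A M) := fun z' hz' => by
        simp only [S, Finset.mem_union, Set.Finite.mem_toFinset, Set.mem_ofPred_eq, not_or, not_not] at hz'
        exact Submodule.smul_mem_smul (mem_ideal_iff.1 hz'.1) trivial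
      have h1 := adicSum_spec (fun z => LinearMap.toSpanSingleton A M (v z)) g n S (by simpa using hS)
      rw [show adicSum (fun z => LinearMap.toSpanSingleton A M (v z)) g = φ g from rfl, hg, zero_sub,
        Submodule.neg_mem_iff] at h1
      let c : Z →₀ A := Finsupp.onFinset S (fun z' => if z' ∈ S then (g : Z → A) z' else 0) fun z' h => by
        by_contra h'; simp [h'] at h
      have h2 : c.sum (fun z a => a • v z) ∈ (maximalIdeal A ^ n • ⊤ : Submodule A M) := by
        rw [Finsupp.onFinset_sum (g := fun z a => a • v z) _ fun _ => zero_smul _ _]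
        convert h1 using 1
        exact Finset.sum_congr rfl fun z' hz' => by simp [hz']
      simpa [c, S] using coeff_mem_pow v hind n c h2 z
    · obtain ⟨g, hg, h⟩ := exists_approx (A := A) (I := maximalIdeal A)
        (fun n => (maximalIdeal A ^ n • ⊤ : Submodule A M)) (by simp) v (fun k y hy => approx_of_span hspan k hy)
        (fun n a ha y => Submodule.smul_mem_smul ha trivial) x
      refine ⟨⟨g, hg⟩, sub_eq_zero.1 (eq_zero_of_forall (I := maximalIdeal A) fun n => ?_)⟩
      obtain ⟨S, hS, hx⟩ := h n
      have h1 := adicSum_spec (fun z => LinearMap.toSpanSingleton A M (v z)) ⟨g, hg⟩ n S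
        (fun z hz => by simpa using Submodule.smul_mem_smul (hS z hz) (Submodule.mem_top (x := v z)))
      have h2 := sub_mem h1 hx
      simpa [φ] using h2
  exact ⟨Z, ⟨(LinearEquiv.ofBijective φ hφ).symm.trans (congr Z (AdicCompletion.ofLinearEquiv _ A))⟩⟩

end Groth.Agent.Decaying
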