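import Groth.Agent.Decaying.Local

/-!
# Limits of flat adic systems
-/

set_option autoImplicit false

universe u

open W4c5adicflatcompl IsLocalRing

namespace Groth.Agent.Decaying

variable {A : Type u} [CommRing A] [IsLocalRing A]

lemma isAdicComplete_of_kill {N : Type u} [AddCommGroup N] [Module A N] (I : Ideal A) (n : ℕ)
    (h : ∀ a ∈ I ^ n, ∀ x : N, a • x = 0) : IsAdicComplete I N := by
  have hbot : (I ^ n • ⊤ : Submodule A N) = ⊥ := le_bot_iff.1
    (Submodule.smul_le.2 fun a ha x _ => (Submodule.mem_bot A).2 (h a ha x))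
  refine { toIsHausdorff := ⟨fun x hx => ?_⟩, toIsPrecomplete := ⟨fun f hf => ⟨f n, fun m => ?_⟩⟩ }
  · have := SModEq.zero.1 (hx n)
    rwa [hbot, Submodule.mem_bot] at this
  · rcases le_total m n with hmn | hmn
    · exact hf hmn
    · have := SModEq.sub_mem.1 (hf hmn)
      rw [hbot, Submodule.mem_bot, sub_eq_zero] at this
      rw [this]

variable [IsNoetherianRing A] [IsAdicComplete (maximalIdeal A) A]
  (M : ℕ → Type u) [∀ n, AddCommGroup (M n)] [∀ n, Module A (M n)]
  [∀ n, Module (A ⧸ maximalIdeal A ^ (n + 1)) (M n)]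
  [∀ n, IsScalarTower A (A ⧸ maximalIdeal A ^ (n + 1)) (M n)]

omit [IsNoetherianRing A] [IsAdicComplete (maximalIdeal A) A] in
lemma kill (n : ℕ) : ∀ a ∈ maximalIdeal A ^ (n + 1), ∀ x : M n, a • x = 0 := fun a ha x => by
  rw [← algebraMap_smul (A ⧸ maximalIdeal A ^ (n + 1)) a x]
  rw [show algebraMap A (A ⧸ maximalIdeal A ^ (n + 1)) a = 0 from Ideal.Quotient.eq_zero_iff_mem.2 ha, zero_smul]

theorem sysLim_adicFree [∀ n, Module.Flat (A ⧸ maximalIdeal A ^ (n + 1)) (M n)]
    (ψ : ∀ n, M (n + 1) →ₗ[A] M n) (hψ : ∀ n, Function.Surjective (ψ n))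
    (hker : ∀ n, LinearMap.ker (ψ n) = (maximalIdeal A ^ (n + 1) • ⊤ : Submodule A (M (n + 1)))) :
    IsAdicFree (maximalIdeal A) (sysLim M ψ) ∧
      ∀ n, Function.Surjective (sysProj M ψ n) ∧
        LinearMap.ker (sysProj M ψ n) = (maximalIdeal A ^ (n + 1) • ⊤ : Submodule A (sysLim M ψ)) := by
  classical
  haveI : ∀ n, IsAdicComplete (maximalIdeal A) (M n) := fun n => isAdicComplete_of_kill _ (n + 1) (kill M n)
  have hzero : ∀ (n k : ℕ) (x : M n), n + 1 ≤ k → x ∈ (maximalIdeal A ^ k • ⊤ : Submodule A (M n)) → x = 0 :=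
    fun n k x hk hx => Submodule.smul_induction_on (p := fun x => x = 0) hx
      (fun a ha y _ => kill M n a (Ideal.pow_le_pow_right hk ha) y) (fun y z hy hz => by rw [hy, hz, add_zero])
  -- surjectivity of the projections
  have hsurj : ∀ n, Function.Surjective (sysProj M ψ n) := by
    intro n x
    let up : ∀ d, M (n + d) := fun d => Nat.rec (motive := fun d => M (n + d)) x (fun d y => (hψ (n + d) y).choose) d
    have hup : ∀ d, ψ (n + d) (up (d + 1)) = up d := fun d => (hψ (n + d) (up d)).choose_spec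
    let q : ∀ (j d : ℕ), M (j + d) →ₗ[A] M j := fun j d =>
      Nat.rec (motive := fun d => M (j + d) →ₗ[A] M j) LinearMap.id (fun d f => f ∘ₗ ψ (j + d)) d
    have hcast : ∀ (a b : ℕ) (h : a = b), ∀ y : M (a + 1), ψ b (h ▸ y) = h ▸ ψ a y := by
      rintro a b rfl y; rfl
    have hmain : ∃ f : ∀ j, M j, (∀ j, ψ j (f (j + 1)) = f j) ∧ f n = x := by
      have hdown : ∀ n, ∀ f : ∀ j, n ≤ j → M j, (∀ j (h : n ≤ j), ψ j (f (j + 1) (by omega)) = f j h) →
          ∃ g : ∀ j, M j, (∀ j, ψ j (g (j + 1)) = g j) ∧ ∀ j (h : n ≤ j), g j = f j h := by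
        intro n
        induction n with
        | zero => exact fun f hf => ⟨fun j => f j (Nat.zero_le j), fun j => hf j (Nat.zero_le j), fun j h => rfl⟩
        | succ n ih =>
          intro f hf
          let f' : ∀ j, n ≤ j → M j := fun j h =>
            if h' : n + 1 ≤ j then f j h' else (show n = j by omega) ▸ ψ n (f (n + 1) le_rfl)
          obtain ⟨g, hg, hgf⟩ := ih f' fun j h => by
            rcases Nat.lt_or_ge j (n + 1) with hj | hj
            · obtain rfl : n = j := by omega
              simp [f']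
            · simp only [f', dif_pos hj, dif_pos (show n + 1 ≤ j + 1 by omega)]
              exact hf j hj
          exact ⟨g, hg, fun j h => (hgf j (by omega)).trans (dif_pos h)⟩
      obtain ⟨g, hg, hgf⟩ := hdown n
        (fun j h => (Nat.add_sub_cancel' h) ▸ up (j - n)) fun j h => by
          obtain ⟨d, rfl⟩ := Nat.exists_eq_add_of_le h
          have e1 : ∀ (e : ℕ) (he : n + e = n + d), (he ▸ up e : M (n + d)) = up d := fun e he => by
            obtain rfl : e = d := by omega
            rfl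
          have e2 : ∀ (e : ℕ) (he : n + e = n + d + 1), (he ▸ up e : M (n + d + 1)) = up (d + 1) := fun e he => by
            obtain rfl : e = d + 1 := by omega
            rfl
          rw [e1, e2]
          exact hup d
      refine ⟨g, hg, (hgf n le_rfl).trans ?_⟩
      have e0 : ∀ (e : ℕ) (he : n + e = n), (he ▸ up e : M n) = x := fun e he => by
        obtain rfl : e = 0 := by omega
        rfl
      exact e0 _ _
    obtain ⟨f, hf, hfn⟩ := hmain
    exact ⟨⟨f, hf⟩, hfn⟩
  obtain ⟨Z, v₀, hspan₀, hind₀⟩ := exists_basis_mod (maximalIdeal A) (M 0)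
  choose v hv using fun z => hsurj 0 (v₀ z)
  -- generation and independence at every level
  let q : ∀ n, M n →ₗ[A] M 0 := fun n =>
    Nat.rec (motive := fun n => M n →ₗ[A] M 0) LinearMap.id (fun n f => f ∘ₗ ψ n) n
  have hqv : ∀ n (x : sysLim M ψ), q n ((x : ∀ k, M k) n) = (x : ∀ k, M k) 0 := by
    intro n
    induction n with
    | zero => intro x; rfl
    | succ n ih => intro x; exact (congrArg (q n) (x.2 n)).trans (ih x)
  have hspan : ∀ n, Submodule.span A (Set.range fun z => (v z : ∀ k, M k) n) ⊔ maximalIdeal A • ⊤ = ⊤ := by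
    intro n
    induction n with
    | zero =>
      rw [show (fun z => (v z : ∀ k, M k) 0) = v₀ from funext hv]
      exact hspan₀
    | succ n ih =>
      rw [eq_top_iff]
      intro x _
      have hx : ψ n x ∈ (Submodule.span A (Set.range fun z => (v z : ∀ k, M k) (n + 1)) ⊔ maximalIdeal A • ⊤).map (ψ n) := by
        rw [Submodule.map_sup, Submodule.map_smul'', Submodule.map_top, LinearMap.range_eq_top.2 (hψ n),
          Submodule.map_span, ← Set.range_comp]
        rw [show (ψ n ∘ fun z => (v z : ∀ k, M k) (n + 1)) = fun z => (v z : ∀ k, M k) n from funext fun z => (v z).2 n, ih]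
        trivial
      obtain ⟨y, hy, hyx⟩ := hx
      have hd : x - y ∈ LinearMap.ker (ψ n) := by rw [LinearMap.mem_ker, map_sub, hyx, sub_self]
      rw [hker n] at hd
      rw [← add_sub_cancel y x]
      refine add_mem hy (Submodule.mem_sup_right ?_)
      exact Submodule.smul_mono_left (Ideal.pow_le_self (Nat.succ_ne_zero n)) hd
  have hindep : ∀ n (c : Z →₀ A), c.sum (fun z a => a • (v z : ∀ k, M k) n) = 0 → ∀ z, c z ∈ maximalIdeal A ^ (n + 1) := by
    intro n c hc z
    let J := maximalIdeal A ^ (n + 1)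
    haveI : Nontrivial (A ⧸ J) := Ideal.Quotient.nontrivial_iff.2 fun h =>
      (maximalIdeal.isMaximal A).ne_top (eq_top_iff.2 (h ▸ Ideal.pow_le_self (Nat.succ_ne_zero n)))
    haveI : IsLocalRing (A ⧸ J) := IsLocalRing.of_surjective' (Ideal.Quotient.mk J) Ideal.Quotient.mk_surjective
    haveI : IsLocalHom (Ideal.Quotient.mk J) := IsLocalHom.of_surjective _ Ideal.Quotient.mk_surjective
    have hmax : ∀ a : A, Ideal.Quotient.mk J a ∈ maximalIdeal (A ⧸ J) ↔ a ∈ maximalIdeal A := fun a => by
      rw [← Ideal.mem_comap, maximalIdeal_comap]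
    have hv' : ∀ d : Z →₀ A ⧸ J, d.sum (fun z a => a • (v z : ∀ k, M k) n) ∈
        (maximalIdeal (A ⧸ J) • ⊤ : Submodule (A ⧸ J) (M n)) → ∀ z, d z ∈ maximalIdeal (A ⧸ J) := by
      intro d hd z
      choose r hr using fun z => Ideal.Quotient.mk_surjective (d z)
      let c' : Z →₀ A := Finsupp.onFinset d.support (fun z => if d z = 0 then 0 else r z) fun z h => by
        rw [Finsupp.mem_support_iff]; intro h0; simp [h0] at h
      have hc' : ∀ z, Ideal.Quotient.mk J (c' z) = d z := fun z => by
        simp only [c', Finsupp.onFinset_apply]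
        split_ifs with h0
        · rw [map_zero, h0]
        · exact hr z
      have h1 : c'.sum (fun z a => a • (v z : ∀ k, M k) n) = d.sum (fun z a => a • (v z : ∀ k, M k) n) := by
        rw [Finsupp.onFinset_sum (g := fun z a => a • (v z : ∀ k, M k) n) _ fun _ => zero_smul _ _, Finsupp.sum]
        refine Finset.sum_congr rfl fun z _ => ?_
        rw [← algebraMap_smul (A ⧸ J) (if d z = 0 then 0 else r z)]
        exact congrArg (· • _) (hc' z)
      have h2 : d.sum (fun z a => a • (v z : ∀ k, M k) n) ∈ (maximalIdeal A • ⊤ : Submodule A (M n)) := by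
        refine Submodule.smul_induction_on (p := fun y => y ∈ (maximalIdeal A • ⊤ : Submodule A (M n))) hd
          (fun a ha y _ => ?_) fun y y' hy hy' => add_mem hy hy'
        obtain ⟨a, rfl⟩ := Ideal.Quotient.mk_surjective a
        rw [← Ideal.Quotient.algebraMap_eq, algebraMap_smul]
        exact Submodule.smul_mem_smul ((hmax a).1 ha) trivial
      have h3 : c'.sum (fun z a => a • v₀ z) ∈ (maximalIdeal A • ⊤ : Submodule A (M 0)) := by
        rw [← h1] at h2
        have h4 := Submodule.mem_map_of_mem (f := q n) h2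
        rw [Submodule.map_smul''] at h4
        have h5 : q n (c'.sum fun z a => a • (v z : ∀ k, M k) n) = c'.sum (fun z a => a • v₀ z) := by
          rw [map_finsuppSum]
          exact Finsupp.sum_congr fun z _ => by rw [map_smul, hqv, ← hv z]; rfl
        rw [← h5]
        exact Submodule.smul_mono le_rfl le_top h4
      rw [← hc' z]
      exact (hmax _).2 (hind₀ c' h3 z)
    let cb := c.mapRange (Ideal.Quotient.mk J) (map_zero _)
    have hcb : cb.sum (fun z a => a • (v z : ∀ k, M k) n) = 0 := by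
      rw [Finsupp.sum_mapRange_index (h := fun z a => a • (v z : ∀ k, M k) n) (fun _ => zero_smul _ _)]
      refine Eq.trans (Finsupp.sum_congr fun z _ => ?_) hc
      exact algebraMap_smul (A ⧸ J) (c z) ((v z : ∀ k, M k) n)
    have h := coeff_mem_pow (R := A ⧸ J) (fun z => (v z : ∀ k, M k) n) hv' (n + 1) cb (by rw [hcb]; exact zero_mem _) z
    have hbot : maximalIdeal (A ⧸ J) ^ (n + 1) = ⊥ := by
      have : maximalIdeal (A ⧸ J) = (maximalIdeal A).map (Ideal.Quotient.mk J) := by
        rw [← maximalIdeal_comap (Ideal.Quotient.mk J), Ideal.map_comap_of_surjective _ Ideal.Quotient.mk_surjective]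
      rw [this, ← Ideal.map_pow, Ideal.map_quotient_self]
    rw [hbot, Submodule.mem_bot] at h
    exact Ideal.Quotient.eq_zero_iff_mem.1 (by simpa [cb] using h)
  -- the comparison map
  let θ : ∀ n, Z → A →ₗ[A] M n := fun n z => LinearMap.toSpanSingleton A (M n) ((v z : ∀ k, M k) n)
  let Φ : decaying (maximalIdeal A) Z A →ₗ[A] sysLim M ψ :=
    (LinearMap.pi fun n => adicSum (θ n)).codRestrict _ fun g n => by
      refine sub_eq_zero.1 (eq_zero_of_forall (I := maximalIdeal A) fun k => ?_)
      let S : Finset Z := (g.2 k).toFinset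
      have hS : ∀ j, ∀ z, z ∉ S → θ j z ((g : Z → A) z) ∈ (maximalIdeal A ^ k • ⊤ : Submodule A (M j)) :=
        fun j z hz => map_mem_pow _ (by simpa [S] using hz)
      have h1 := map_mem_pow (ψ n) (adicSum_spec (θ (n + 1)) g k S (hS _))
      have h2 := adicSum_spec (θ n) g k S (hS _)
      have h3 := sub_mem h1 h2
      rw [map_sub, map_sum] at h3
      have h4 : ∑ z ∈ S, ψ n (θ (n + 1) z ((g : Z → A) z)) = ∑ z ∈ S, θ n z ((g : Z → A) z) :=
        Finset.sum_congr rfl fun z _ => by
          simp only [θ, LinearMap.toSpanSingleton_apply, map_smul]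
          rw [(v z).2 n]
      rw [h4, sub_sub_sub_cancel_right] at h3
      exact h3
  have hΦker : ∀ n g, sysProj M ψ n (Φ g) = 0 → ∀ z, (g : Z → A) z ∈ maximalIdeal A ^ (n + 1) := by
    intro n g hg z
    let S : Finset Z := (g.2 (n + 1)).toFinset ∪ {z}
    have hS : ∀ z', z' ∉ S → θ n z' ((g : Z → A) z') ∈ (maximalIdeal A ^ (n + 1) • ⊤ : Submodule A (M n)) :=
      fun z' hz' => by
        simp only [S, Finset.mem_union, Set.Finite.mem_toFinset, Set.mem_ofPred_eq, not_or, not_not] at hz'
        exact map_mem_pow _ hz'.1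
    have h1 := hzero n (n + 1) _ le_rfl (adicSum_spec (θ n) g (n + 1) S hS)
    have hg' : adicSum (θ n) g = 0 := hg
    rw [hg', zero_sub, neg_eq_zero] at h1
    let c : Z →₀ A := Finsupp.onFinset S (fun z' => if z' ∈ S then (g : Z → A) z' else 0) fun z' h => by
      by_contra h'; simp [h'] at h
    have h2 : c.sum (fun z a => a • (v z : ∀ k, M k) n) = 0 := by
      rw [Finsupp.onFinset_sum (g := fun z a => a • (v z : ∀ k, M k) n) _ fun _ => zero_smul _ _]
      refine Eq.trans (Finset.sum_congr rfl fun z' hz' => ?_) h1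
      simp [θ, hz']
    simpa [c, S] using hindep n c h2 z
  have hΦinj : Function.Injective Φ := (injective_iff_map_eq_zero Φ).2 fun g hg => Subtype.ext (funext fun z =>
    eq_zero_of_forall (I := maximalIdeal A) fun n => mem_ideal_iff.2 (Ideal.pow_le_pow_right (Nat.le_succ n)
      (hΦker n g (by rw [hg, map_zero]) z)))
  have hΦsurj : Function.Surjective Φ := by
    intro x
    let P : ℕ → Submodule A (sysLim M ψ) := fun k => Nat.rec ⊤ (fun j _ => LinearMap.ker (sysProj M ψ j)) k
    have happ : ∀ k, ∀ y : sysLim M ψ, y ∈ P k → ∃ c : Z →₀ A, (∀ z, c z ∈ maximalIdeal A ^ k) ∧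
        y - c.sum (fun z a => a • v z) ∈ P (k + 1) := by
      intro k y hy
      have hmem : (y : ∀ j, M j) k ∈ (maximalIdeal A ^ k • ⊤ : Submodule A (M k)) := by
        cases k with
        | zero => simp
        | succ j =>
          rw [← hker j, LinearMap.mem_ker, y.2 j]
          exact LinearMap.mem_ker.1 hy
      obtain ⟨c, hc, hd⟩ := approx_of_span (hspan k) k hmem
      refine ⟨c, hc, LinearMap.mem_ker.2 ?_⟩
      rw [map_sub, map_finsuppSum]
      simp only [map_smul, sysProj_apply]
      exact hzero k (k + 1) _ le_rfl hd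
    obtain ⟨g, hg, h⟩ := exists_approx (A := A) (I := maximalIdeal A) P rfl v happ
      (fun k a ha y => by
      cases k with
      | zero => trivial
      | succ j => exact LinearMap.mem_ker.2 (by rw [map_smul]; exact kill M j a ha _)) x
    refine ⟨⟨g, hg⟩, Subtype.ext (funext fun n => ?_)⟩
    obtain ⟨S, hS, hx⟩ := h (n + 1)
    have h1 := hzero n (n + 1) _ le_rfl (adicSum_spec (θ n) ⟨g, hg⟩ (n + 1) S fun z hz =>
      map_mem_pow _ (mem_ideal_iff.2 (hS z hz)))
    have hx' : (x : ∀ k, M k) n - ∑ z ∈ S, g z • (v z : ∀ k, M k) n = 0 := by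
      have := LinearMap.mem_ker.1 hx
      simpa [map_sub, map_sum] using this
    exact (sub_eq_zero.1 h1).trans (sub_eq_zero.1 hx').symm
  let eΦ := LinearEquiv.ofBijective Φ ⟨hΦinj, hΦsurj⟩
  refine ⟨⟨Z, ⟨eΦ.symm.trans (congr Z (AdicCompletion.ofLinearEquiv _ A))⟩⟩, fun n => ⟨hsurj n, ?_⟩⟩
  refine le_antisymm (fun x hx => ?_) (Submodule.smul_le.2 fun a ha y _ => LinearMap.mem_ker.2 ?_)
  · obtain ⟨g, rfl⟩ := hΦsurj x
    exact map_mem_pow Φ ((mem_pow_smul_top_iff (IsNoetherian.noetherian _) g (n + 1)).2 fun z =>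
      mem_ideal_iff.2 (hΦker n g (LinearMap.mem_ker.1 hx) z))
  · rw [map_smul]
    exact kill M n a ha _

end Groth.Agent.Decaying
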