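import Groth.Agent.Decaying.Basic
import Groth.Agent.S17541
import Groth.Agent.S17542
import Mathlib.RingTheory.Flat.EquationalCriterion

/-!
# Decaying functions: flatness and finite coefficients
-/

set_option autoImplicit false

universe u v w

open W4c5adicflatcompl TensorProduct

namespace Groth.Agent.Decaying

variable {A : Type u} [CommRing A] [IsNoetherianRing A] {I : Ideal A} [IsAdicComplete I A] {Z : Type v}

omit [IsNoetherianRing A] [IsAdicComplete I A] in
lemma pi_mem {m : ℕ} {n : ℕ} (w : Fin m → A) (h : ∀ j, w j ∈ I ^ n) :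
    w ∈ (I ^ n • ⊤ : Submodule A (Fin m → A)) := by
  classical
  rw [pi_eq_sum_univ w]
  exact Submodule.sum_mem _ fun j _ => Submodule.smul_mem_smul (h j) trivial

omit [IsNoetherianRing A] [IsAdicComplete I A] in
lemma tuple_mem_decaying {m : ℕ} (f : Fin m → decaying I Z A) :
    (fun z => fun j => (f j : Z → A) z) ∈ decaying I Z (Fin m → A) := fun n =>
  (Set.finite_iUnion fun j => (f j).2 n).subset fun z hz => by
    by_contra h
    simp only [Set.mem_iUnion, not_exists, Set.mem_ofPred_eq, not_not] at h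
    exact hz (pi_mem _ fun j => mem_ideal_iff.1 (h j))

omit [IsNoetherianRing A] [IsAdicComplete I A] in
/-- Decaying functions lift along surjections. -/
lemma exists_decaying_lift {N : Type*} [AddCommGroup N] [Module A N] {M : Type w} [AddCommGroup M] [Module A M]
    [IsHausdorff I M] (φ : N →ₗ[A] M) (hφ : Function.Surjective φ) (g : Z → M) (hg : g ∈ decaying I Z M) :
    ∃ f : Z → N, f ∈ decaying I Z N ∧ ∀ z, φ (f z) = g z := by
  classical
  have hlift : ∀ z, ∃ y, φ y = g z ∧
      ∀ n, g z ∈ (I ^ n • ⊤ : Submodule A M) → y ∈ (I ^ n • ⊤ : Submodule A N) := by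
    intro z
    by_cases h0 : g z = 0
    · exact ⟨0, by rw [map_zero, h0], fun n _ => zero_mem _⟩
    have hex : ∃ n, g z ∉ (I ^ n • ⊤ : Submodule A M) := by
      by_contra hne
      exact h0 (eq_zero_of_forall (I := I) fun n => not_not.mp fun h => hne ⟨n, h⟩)
    have hpos : Nat.find hex ≠ 0 := fun h => by
      have := Nat.find_spec hex
      rw [h] at this
      exact this (by simp)
    have hmem : g z ∈ Submodule.map φ (I ^ (Nat.find hex - 1) • ⊤ : Submodule A N) := by
      rw [Submodule.map_smul'', Submodule.map_top, LinearMap.range_eq_top.mpr hφ]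
      exact not_not.mp (Nat.find_min hex (by omega))
    obtain ⟨y, hy, he⟩ := hmem
    refine ⟨y, he, fun n hn => mem_pow_of_le ?_ hy⟩
    by_contra hcon
    exact Nat.find_spec hex (mem_pow_of_le (by omega) hn)
  choose f hf hf' using hlift
  exact ⟨f, fun n => (hg n).subset fun z hz hz' => hz (hf' z n hz'), hf⟩

omit [IsNoetherianRing A] [IsAdicComplete I A] in
lemma map_eq_sum {m : ℕ} {M : Type w} [AddCommGroup M] [Module A M] (π : (Fin m → A) →ₗ[A] M) (w : Fin m → A) :
    π w = ∑ j, w j • π (Pi.single j 1) := by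
  classical
  conv_lhs => rw [← Finset.univ_sum_single w, map_sum]
  exact Finset.sum_congr rfl fun t _ => by rw [← map_smul, ← Pi.single_smul, smul_eq_mul, mul_one]

/-- Pointwise relations come from finitely many constant relations. -/
theorem exists_relation_lift {m : ℕ} {M : Type w} [AddCommGroup M] [Module A M] (π : (Fin m → A) →ₗ[A] M)
    (f : Fin m → decaying I Z A) (h : ∀ z, π (fun j => (f j : Z → A) z) = 0) :
    ∃ (e : ℕ) (L : Fin e → Fin m → A) (y : Fin e → decaying I Z A),
      (∀ t, π (L t) = 0) ∧ ∀ j, f j = ∑ t, L t j • y t := by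
  classical
  let K := LinearMap.ker π
  let w : Z → K := fun z => ⟨fun j => (f j : Z → A) z, LinearMap.mem_ker.2 (h z)⟩
  have hw : w ∈ decaying I Z K := (S17541.result I Z (Fin m → A) K w).2 (tuple_mem_decaying f)
  obtain ⟨e, σ, hσ⟩ := Module.Finite.exists_fin' A K
  obtain ⟨c, hc, hcw⟩ := S17542.result I Z σ hσ w hw
  let L : Fin e → Fin m → A := fun t => (σ (Pi.single t 1) : Fin m → A)
  have hy : ∀ t, (fun z => c z t) ∈ decaying I Z A := fun t n =>
    (hc n).subset fun z hz hz' => hz (map_mem_pow (LinearMap.proj t : (Fin e → A) →ₗ[A] A) hz')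
  refine ⟨e, L, fun t => ⟨fun z => c z t, hy t⟩, fun t => LinearMap.mem_ker.1 (σ (Pi.single t 1)).2, fun j => ?_⟩
  refine Subtype.ext (funext fun z => ?_)
  have h1 : (σ (c z) : Fin m → A) j = ∑ t, c z t * L t j := by
    rw [map_eq_sum σ (c z)]
    simp [L, Finset.sum_apply]
  rw [hcw z] at h1
  simp only [Submodule.coe_sum, Finset.sum_apply, Submodule.coe_smul, Pi.smul_apply, smul_eq_mul]
  exact h1.trans (Finset.sum_congr rfl fun t _ => mul_comm _ _)

theorem flat_decaying : Module.Flat A (decaying I Z A) := by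
  refine Module.Flat.of_forall_isTrivialRelation fun {l f x} hfx => ?_
  let π : (Fin l → A) →ₗ[A] A := ∑ j, f j • LinearMap.proj j
  obtain ⟨e, L, y, hL, hy⟩ := exists_relation_lift π x fun z => by
    have := congrFun (congrArg Subtype.val hfx) z
    simpa [π] using this
  exact ⟨e, fun j t => L t j, y, hy, fun t => by simpa [π] using hL t⟩

theorem tensor_injective_range {M : Type w} [AddCommGroup M] [Module A M] [Module.Finite A M] :
    Function.Injective
        ((TensorProduct.piScalarRightHom A A M Z) ∘ₗ ((decaying I Z A).subtype.lTensor M)) ∧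
      LinearMap.range
        ((TensorProduct.piScalarRightHom A A M Z) ∘ₗ ((decaying I Z A).subtype.lTensor M)) =
        decaying I Z M := by
  classical
  obtain ⟨m, π, hπ⟩ := Module.Finite.exists_fin' A M
  let Φ := (TensorProduct.piScalarRightHom A A M Z) ∘ₗ ((decaying I Z A).subtype.lTensor M)
  let T : (Fin m → decaying I Z A) → M ⊗[A] decaying I Z A := fun f => ∑ j, π (Pi.single j 1) ⊗ₜ[A] f j
  have hsum : ∀ w : Fin m → A, ∑ j, w j • π (Pi.single j 1) = π w := fun w => (map_eq_sum π w).symm
  have hT : Function.Surjective T := fun x => by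
    induction x using TensorProduct.induction_on with
    | zero => exact ⟨0, by simp [T]⟩
    | tmul a d =>
      obtain ⟨w, rfl⟩ := hπ a
      refine ⟨fun j => w j • d, ?_⟩
      simp only [T, TensorProduct.tmul_smul, TensorProduct.smul_tmul']
      rw [← TensorProduct.sum_tmul, hsum]
    | add x y hx hy =>
      obtain ⟨f, rfl⟩ := hx
      obtain ⟨g, rfl⟩ := hy
      exact ⟨f + g, by simp [T, TensorProduct.tmul_add, Finset.sum_add_distrib]⟩
  have hΦ : ∀ f z, Φ (T f) z = π (fun j => (f j : Z → A) z) := fun f z => by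
    rw [← hsum]
    simp [Φ, T, Finset.sum_apply]
  refine ⟨(injective_iff_map_eq_zero _).2 fun x hx => ?_, le_antisymm ?_ fun g hg => ?_⟩
  · obtain ⟨f, rfl⟩ := hT x
    obtain ⟨e, L, y, hL, hy⟩ := exists_relation_lift π f fun z => by rw [← hΦ]; exact congrFun hx z
    simp only [T, hy, TensorProduct.tmul_sum]
    rw [Finset.sum_comm]
    refine Finset.sum_eq_zero fun t _ => ?_
    simp only [TensorProduct.tmul_smul, TensorProduct.smul_tmul']
    rw [← TensorProduct.sum_tmul, hsum, hL, TensorProduct.zero_tmul]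
  · rintro _ ⟨x, rfl⟩ n
    obtain ⟨f, rfl⟩ := hT x
    refine ((tuple_mem_decaying f) n).subset fun z hz hz' => hz ?_
    rw [show Φ (T f) z = _ from hΦ f z]
    exact map_mem_pow π hz'
  · haveI : IsHausdorff I M := IsHausdorff.of_le_jacobson I M (IsAdicComplete.le_jacobson_bot I)
    obtain ⟨c, hc, hcg⟩ := exists_decaying_lift π hπ g hg
    refine ⟨T fun j => ⟨fun z => c z j, fun n => (hc n).subset fun z hz hz' =>
      hz (map_mem_pow (LinearMap.proj j : (Fin m → A) →ₗ[A] A) hz')⟩, funext fun z => ?_⟩
    exact (hΦ _ z).trans (hcg z)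

end Groth.Agent.Decaying
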